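import Cfsg.Agent.Lib.H34.TCO7B.Data
import Cfsg.Agent.Lib.H35.TC
set_option autoImplicit false
set_option maxRecDepth 100000
set_option linter.all false
namespace H34.TCO7B
open H35.TC
/-- letters -/
inductive Lt | b | c | d | e | f | h | i | u | ui
  deriving DecidableEq
/-- inverse letter -/
def inv : Lt → Lt
  | .b => .b
  | .c => .c
  | .d => .d
  | .e => .e
  | .f => .f
  | .h => .h
  | .i => .i
  | .u => .ui
  | .ui => .u
/-- table functions -/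
noncomputable def T : Lt → ℕ → ℕ
  | .b => T_b
  | .c => T_c
  | .d => T_d
  | .e => T_e
  | .f => T_f
  | .h => T_h
  | .i => T_i
  | .u => T_u
  | .ui => T_ui
/-- decoding of letter codes -/
def lt : ℕ → Lt
  | 0 => .b
  | 1 => .c
  | 2 => .d
  | 3 => .e
  | 4 => .f
  | 5 => .h
  | 6 => .i
  | 7 => .u
  | _ => .ui
/-- Coxeter matrix (0: no relation) -/
def mm : Lt → Lt → ℕ
  | .b, .b => 1
  | .b, .c => 3
  | .b, .d => 2
  | .b, .e => 2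
  | .b, .f => 2
  | .b, .h => 2
  | .b, .i => 2
  | .c, .b => 3
  | .c, .c => 1
  | .c, .d => 3
  | .c, .e => 2
  | .c, .f => 2
  | .c, .h => 2
  | .c, .i => 2
  | .d, .b => 2
  | .d, .c => 3
  | .d, .d => 1
  | .d, .e => 3
  | .d, .f => 2
  | .d, .h => 3
  | .d, .i => 2
  | .e, .b => 2
  | .e, .c => 2
  | .e, .d => 3
  | .e, .e => 1
  | .e, .f => 3
  | .e, .h => 2
  | .e, .i => 2
  | .f, .b => 2
  | .f, .c => 2
  | .f, .d => 2
  | .f, .e => 3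
  | .f, .f => 1
  | .f, .h => 2
  | .f, .i => 2
  | .h, .b => 2
  | .h, .c => 2
  | .h, .d => 3
  | .h, .e => 2
  | .h, .f => 2
  | .h, .h => 1
  | .h, .i => 3
  | .i, .b => 2
  | .i, .c => 2
  | .i, .d => 2
  | .i, .e => 2
  | .i, .f => 2
  | .i, .h => 3
  | .i, .i => 1
  | _, _ => 0
/-- extra relators `w ^ n` -/
def extra : List (List Lt × ℕ) := [
  ([.u, .i, .ui, .i], 1),
  ([.u, .h, .ui, .h], 1),
  ([.u, .f, .ui, .f], 1),
  ([.u, .e, .ui, .e], 1),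
  ([.u, .d, .ui, .d], 1),
  ([.u, .c, .ui, .c], 1),
  ([.u, .b, .ui, .b], 1),
  ([.d, .c, .b, .d, .e, .f, .d, .h, .i, .d, .c, .b, .d, .e, .f, .d, .h, .i, .d, .c, .b, .d, .e, .f, .d, .h, .i, .d, .c, .b, .d, .e, .f, .d, .h, .i, .d, .c, .b, .d, .e, .f, .d, .h, .i, .d, .c, .b, .d, .e, .f, .d, .h, .i, .d, .c, .b, .d, .e, .f, .d, .h, .i, .d, .c, .b, .d, .e, .f, .d, .h, .i, .d, .c, .b, .d, .e, .f, .d, .h, .i, .d, .c, .b, .d, .e, .f, .d, .h, .i, .ui], 1),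
  ([.u, .ui], 1),
  ([.ui, .u], 1)]
/-- relators -/
def rels : List (List Lt) := mkRels [(.d, .i), (.f, .i), (.f, .h), (.e, .i), (.e, .h), (.b, .d), (.b, .e), (.b, .f), (.b, .h), (.c, .i), (.c, .h), (.c, .f), (.d, .f), (.b, .i), (.c, .e), (.h, .i), (.c, .d), (.d, .e), (.e, .f), (.b, .c), (.d, .h), (.b, .b), (.c, .c), (.d, .d), (.e, .e), (.f, .f), (.h, .h), (.i, .i)] mm extra
/-- subgroup words -/
def subs : List (List Lt) := [
  [.b],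
  [.c],
  [.d],
  [.e],
  [.f],
  [.h]]
noncomputable def dp_b_0 (j u : ℕ) : Bool :=
  Bool.rec (motive := fun _ => Bool) (lF3 T_i T_b T_i M (Nat.sub (T_b u) (Nat.mod (T_b u) M)) (Nat.mod (T_b u) M) u) (lF3 T_d T_b T_d M (Nat.sub (T_b u) (Nat.mod (T_b u) M)) (Nat.mod (T_b u) M) u) (Nat.ble (nat_lit 5) j)
noncomputable def dp_b_1 (j u : ℕ) : Bool :=
  Bool.rec (motive := fun _ => Bool) (lF3 T_e T_b T_e M (Nat.sub (T_b u) (Nat.mod (T_b u) M)) (Nat.mod (T_b u) M) u) (lF3 T_f T_b T_f M (Nat.sub (T_b u) (Nat.mod (T_b u) M)) (Nat.mod (T_b u) M) u) (Nat.ble (nat_lit 7) j)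
noncomputable def dp_b_2 (j u : ℕ) : Bool :=
  Bool.rec (motive := fun _ => Bool) (lF [T_c, T_b, T_c, T_b, T_c] M (Nat.sub (T_b u) (Nat.mod (T_b u) M)) (Nat.mod (T_b u) M) u) (lH [] [] M (Nat.sub (T_b u) (Nat.mod (T_b u) M)) (Nat.mod (T_b u) M) u) (Nat.ble (nat_lit 11) j)
noncomputable def dp_b_3 (j u : ℕ) : Bool :=
  Bool.rec (motive := fun _ => Bool) (lDef P (nat_lit 0) u (Nat.mod (T_b u) M)) (dp_b_2 j u) (Nat.ble (nat_lit 10) j)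
noncomputable def dp_b_4 (j u : ℕ) : Bool :=
  Bool.rec (motive := fun _ => Bool) (lDef P (nat_lit 0) (Nat.mod (T_b u) M) u) (dp_b_3 j u) (Nat.ble (nat_lit 9) j)
noncomputable def dp_b_5 (j u : ℕ) : Bool :=
  Bool.rec (motive := fun _ => Bool) (Bool.rec (motive := fun _ => Bool) (lF3 T_u T_b T_ui M (Nat.sub (T_b u) (Nat.mod (T_b u) M)) (Nat.mod (T_b u) M) u) (lF3 T_h T_b T_h M (Nat.sub (T_b u) (Nat.mod (T_b u) M)) (Nat.mod (T_b u) M) u) (Nat.ble (nat_lit 3) j)) (Bool.rec (motive := fun _ => Bool) (dp_b_0 j u) (Bool.rec (motive := fun _ => Bool) (dp_b_1 j u) (dp_b_4 j u) (Nat.ble (nat_lit 8) j)) (Nat.ble (nat_lit 6) j)) (Nat.ble (nat_lit 4) j)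
noncomputable def disp_b (j u : ℕ) : Bool :=
  Bool.rec (motive := fun _ => Bool) (Bool.rec (motive := fun _ => Bool) (lF1 T_b M (Nat.sub (T_b u) (Nat.mod (T_b u) M)) (Nat.mod (T_b u) M) u) (lF3 T_ui T_b T_u M (Nat.sub (T_b u) (Nat.mod (T_b u) M)) (Nat.mod (T_b u) M) u) (Nat.ble (nat_lit 1) j)) (dp_b_5 j u) (Nat.ble (nat_lit 2) j)
noncomputable def chk_b (j u : ℕ) : Bool :=
  Bool.rec (motive := fun _ => Bool) (disp_b j u) (Nat.ble (Nat.succ (MG u)) A) (Nat.ble A (T_b u))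
noncomputable def dp_c_0 (j u : ℕ) : Bool :=
  Bool.rec (motive := fun _ => Bool) (lF3 T_i T_c T_i M (Nat.sub (T_c u) (Nat.mod (T_c u) M)) (Nat.mod (T_c u) M) u) (lDef P (nat_lit 1) (Nat.mod (T_c u) M) u) (Nat.ble (nat_lit 7) j)
noncomputable def dp_c_1 (j u : ℕ) : Bool :=
  Bool.rec (motive := fun _ => Bool) (lS MG [T_c] M (Nat.sub (T_c u) (Nat.mod (T_c u) M)) (nat_lit 40) (Nat.mod (T_c u) M) u) (lH [] [] M (Nat.sub (T_c u) (Nat.mod (T_c u) M)) (Nat.mod (T_c u) M) u) (Nat.ble (nat_lit 12) j)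
noncomputable def dp_c_2 (j u : ℕ) : Bool :=
  Bool.rec (motive := fun _ => Bool) (lF [T_b, T_c, T_b, T_c, T_b] M (Nat.sub (T_c u) (Nat.mod (T_c u) M)) (Nat.mod (T_c u) M) u) (dp_c_1 j u) (Nat.ble (nat_lit 11) j)
noncomputable def dp_c_3 (j u : ℕ) : Bool :=
  Bool.rec (motive := fun _ => Bool) (lF [T_d, T_c, T_d, T_c, T_d] M (Nat.sub (T_c u) (Nat.mod (T_c u) M)) (Nat.mod (T_c u) M) u) (dp_c_2 j u) (Nat.ble (nat_lit 10) j)
noncomputable def dp_c_4 (j u : ℕ) : Bool :=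
  Bool.rec (motive := fun _ => Bool) (lDef P (nat_lit 1) u (Nat.mod (T_c u) M)) (dp_c_3 j u) (Nat.ble (nat_lit 9) j)
noncomputable def dp_c_5 (j u : ℕ) : Bool :=
  Bool.rec (motive := fun _ => Bool) (Bool.rec (motive := fun _ => Bool) (lF3 T_f T_c T_f M (Nat.sub (T_c u) (Nat.mod (T_c u) M)) (Nat.mod (T_c u) M) u) (lF3 T_h T_c T_h M (Nat.sub (T_c u) (Nat.mod (T_c u) M)) (Nat.mod (T_c u) M) u) (Nat.ble (nat_lit 5) j)) (Bool.rec (motive := fun _ => Bool) (dp_c_0 j u) (dp_c_4 j u) (Nat.ble (nat_lit 8) j)) (Nat.ble (nat_lit 6) j)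
noncomputable def disp_c (j u : ℕ) : Bool :=
  Bool.rec (motive := fun _ => Bool) (Bool.rec (motive := fun _ => Bool) (lF1 T_c M (Nat.sub (T_c u) (Nat.mod (T_c u) M)) (Nat.mod (T_c u) M) u) (lF3 T_ui T_c T_u M (Nat.sub (T_c u) (Nat.mod (T_c u) M)) (Nat.mod (T_c u) M) u) (Nat.ble (nat_lit 1) j)) (Bool.rec (motive := fun _ => Bool) (Bool.rec (motive := fun _ => Bool) (lF3 T_u T_c T_ui M (Nat.sub (T_c u) (Nat.mod (T_c u) M)) (Nat.mod (T_c u) M) u) (lF3 T_e T_c T_e M (Nat.sub (T_c u) (Nat.mod (T_c u) M)) (Nat.mod (T_c u) M) u) (Nat.ble (nat_lit 3) j)) (dp_c_5 j u) (Nat.ble (nat_lit 4) j)) (Nat.ble (nat_lit 2) j)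
noncomputable def chk_c (j u : ℕ) : Bool :=
  Bool.rec (motive := fun _ => Bool) (disp_c j u) (Nat.ble (Nat.succ (MG u)) A) (Nat.ble A (T_c u))
noncomputable def dp_d_0 (j u : ℕ) : Bool :=
  Bool.rec (motive := fun _ => Bool) (lS MG [T_d] M (Nat.sub (T_d u) (Nat.mod (T_d u) M)) (nat_lit 40) (Nat.mod (T_d u) M) u) (lH [] [] M (Nat.sub (T_d u) (Nat.mod (T_d u) M)) (Nat.mod (T_d u) M) u) (Nat.ble (nat_lit 12) j)
noncomputable def dp_d_1 (j u : ℕ) : Bool :=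
  Bool.rec (motive := fun _ => Bool) (lF [T_h, T_d, T_h, T_d, T_h] M (Nat.sub (T_d u) (Nat.mod (T_d u) M)) (Nat.mod (T_d u) M) u) (dp_d_0 j u) (Nat.ble (nat_lit 11) j)
noncomputable def dp_d_2 (j u : ℕ) : Bool :=
  Bool.rec (motive := fun _ => Bool) (lF [T_c, T_d, T_c, T_d, T_c] M (Nat.sub (T_d u) (Nat.mod (T_d u) M)) (Nat.mod (T_d u) M) u) (dp_d_1 j u) (Nat.ble (nat_lit 10) j)
noncomputable def dp_d_3 (j u : ℕ) : Bool :=
  Bool.rec (motive := fun _ => Bool) (lF [T_e, T_d, T_e, T_d, T_e] M (Nat.sub (T_d u) (Nat.mod (T_d u) M)) (Nat.mod (T_d u) M) u) (dp_d_2 j u) (Nat.ble (nat_lit 9) j)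
noncomputable def dp_d_4 (j u : ℕ) : Bool :=
  Bool.rec (motive := fun _ => Bool) (lF3 T_i T_d T_i M (Nat.sub (T_d u) (Nat.mod (T_d u) M)) (Nat.mod (T_d u) M) u) (dp_d_3 j u) (Nat.ble (nat_lit 8) j)
noncomputable def dp_d_5 (j u : ℕ) : Bool :=
  Bool.rec (motive := fun _ => Bool) (Bool.rec (motive := fun _ => Bool) (lDef P (nat_lit 2) (Nat.mod (T_d u) M) u) (lDef P (nat_lit 2) u (Nat.mod (T_d u) M)) (Nat.ble (nat_lit 5) j)) (Bool.rec (motive := fun _ => Bool) (lF3 T_b T_d T_b M (Nat.sub (T_d u) (Nat.mod (T_d u) M)) (Nat.mod (T_d u) M) u) (dp_d_4 j u) (Nat.ble (nat_lit 7) j)) (Nat.ble (nat_lit 6) j)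
noncomputable def disp_d (j u : ℕ) : Bool :=
  Bool.rec (motive := fun _ => Bool) (Bool.rec (motive := fun _ => Bool) (lF1 T_d M (Nat.sub (T_d u) (Nat.mod (T_d u) M)) (Nat.mod (T_d u) M) u) (lF3 T_u T_d T_ui M (Nat.sub (T_d u) (Nat.mod (T_d u) M)) (Nat.mod (T_d u) M) u) (Nat.ble (nat_lit 1) j)) (Bool.rec (motive := fun _ => Bool) (Bool.rec (motive := fun _ => Bool) (lF3 T_ui T_d T_u M (Nat.sub (T_d u) (Nat.mod (T_d u) M)) (Nat.mod (T_d u) M) u) (lF3 T_f T_d T_f M (Nat.sub (T_d u) (Nat.mod (T_d u) M)) (Nat.mod (T_d u) M) u) (Nat.ble (nat_lit 3) j)) (dp_d_5 j u) (Nat.ble (nat_lit 4) j)) (Nat.ble (nat_lit 2) j)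
noncomputable def chk_d (j u : ℕ) : Bool :=
  Bool.rec (motive := fun _ => Bool) (disp_d j u) (Nat.ble (Nat.succ (MG u)) A) (Nat.ble A (T_d u))
noncomputable def dp_e_0 (j u : ℕ) : Bool :=
  Bool.rec (motive := fun _ => Bool) (lF3 T_b T_e T_b M (Nat.sub (T_e u) (Nat.mod (T_e u) M)) (Nat.mod (T_e u) M) u) (lF3 T_c T_e T_c M (Nat.sub (T_e u) (Nat.mod (T_e u) M)) (Nat.mod (T_e u) M) u) (Nat.ble (nat_lit 6) j)
noncomputable def dp_e_1 (j u : ℕ) : Bool :=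
  Bool.rec (motive := fun _ => Bool) (lS MG [T_e] M (Nat.sub (T_e u) (Nat.mod (T_e u) M)) (nat_lit 40) (Nat.mod (T_e u) M) u) (lH [] [] M (Nat.sub (T_e u) (Nat.mod (T_e u) M)) (Nat.mod (T_e u) M) u) (Nat.ble (nat_lit 12) j)
noncomputable def dp_e_2 (j u : ℕ) : Bool :=
  Bool.rec (motive := fun _ => Bool) (lF [T_f, T_e, T_f, T_e, T_f] M (Nat.sub (T_e u) (Nat.mod (T_e u) M)) (Nat.mod (T_e u) M) u) (dp_e_1 j u) (Nat.ble (nat_lit 11) j)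
noncomputable def dp_e_3 (j u : ℕ) : Bool :=
  Bool.rec (motive := fun _ => Bool) (lF [T_d, T_e, T_d, T_e, T_d] M (Nat.sub (T_e u) (Nat.mod (T_e u) M)) (Nat.mod (T_e u) M) u) (dp_e_2 j u) (Nat.ble (nat_lit 10) j)
noncomputable def dp_e_4 (j u : ℕ) : Bool :=
  Bool.rec (motive := fun _ => Bool) (lF3 T_i T_e T_i M (Nat.sub (T_e u) (Nat.mod (T_e u) M)) (Nat.mod (T_e u) M) u) (dp_e_3 j u) (Nat.ble (nat_lit 9) j)
noncomputable def dp_e_5 (j u : ℕ) : Bool :=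
  Bool.rec (motive := fun _ => Bool) (lF3 T_h T_e T_h M (Nat.sub (T_e u) (Nat.mod (T_e u) M)) (Nat.mod (T_e u) M) u) (dp_e_4 j u) (Nat.ble (nat_lit 8) j)
noncomputable def dp_e_6 (j u : ℕ) : Bool :=
  Bool.rec (motive := fun _ => Bool) (Bool.rec (motive := fun _ => Bool) (lDef P (nat_lit 3) (Nat.mod (T_e u) M) u) (lDef P (nat_lit 3) u (Nat.mod (T_e u) M)) (Nat.ble (nat_lit 4) j)) (Bool.rec (motive := fun _ => Bool) (dp_e_0 j u) (dp_e_5 j u) (Nat.ble (nat_lit 7) j)) (Nat.ble (nat_lit 5) j)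
noncomputable def disp_e (j u : ℕ) : Bool :=
  Bool.rec (motive := fun _ => Bool) (Bool.rec (motive := fun _ => Bool) (lF1 T_e M (Nat.sub (T_e u) (Nat.mod (T_e u) M)) (Nat.mod (T_e u) M) u) (Bool.rec (motive := fun _ => Bool) (lF3 T_u T_e T_ui M (Nat.sub (T_e u) (Nat.mod (T_e u) M)) (Nat.mod (T_e u) M) u) (lF3 T_ui T_e T_u M (Nat.sub (T_e u) (Nat.mod (T_e u) M)) (Nat.mod (T_e u) M) u) (Nat.ble (nat_lit 2) j)) (Nat.ble (nat_lit 1) j)) (dp_e_6 j u) (Nat.ble (nat_lit 3) j)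
noncomputable def chk_e (j u : ℕ) : Bool :=
  Bool.rec (motive := fun _ => Bool) (disp_e j u) (Nat.ble (Nat.succ (MG u)) A) (Nat.ble A (T_e u))
noncomputable def dp_f_0 (j u : ℕ) : Bool :=
  Bool.rec (motive := fun _ => Bool) (lF3 T_d T_f T_d M (Nat.sub (T_f u) (Nat.mod (T_f u) M)) (Nat.mod (T_f u) M) u) (lF3 T_c T_f T_c M (Nat.sub (T_f u) (Nat.mod (T_f u) M)) (Nat.mod (T_f u) M) u) (Nat.ble (nat_lit 6) j)
noncomputable def dp_f_1 (j u : ℕ) : Bool :=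
  Bool.rec (motive := fun _ => Bool) (lS MG [T_f] M (Nat.sub (T_f u) (Nat.mod (T_f u) M)) (nat_lit 40) (Nat.mod (T_f u) M) u) (lF [T_d, T_h, T_i, T_d, T_c, T_b, T_d, T_e, T_f, T_d, T_h, T_i, T_d, T_c, T_b, T_d, T_e, T_f, T_d, T_h, T_i, T_d, T_c, T_b, T_d, T_e, T_f, T_d, T_h, T_i, T_d, T_c, T_b, T_d, T_e, T_f, T_d, T_h, T_i, T_d, T_c, T_b, T_d, T_e, T_f, T_d, T_h, T_i, T_d, T_c, T_b, T_d, T_e, T_f, T_d, T_h, T_i, T_d, T_c, T_b, T_d, T_e, T_f, T_d, T_h, T_i, T_d, T_c, T_b, T_d, T_e, T_f, T_d, T_h, T_i, T_d, T_c, T_b, T_d, T_e, T_f, T_d, T_h, T_i, T_ui, T_d, T_c, T_b, T_d, T_e] M (Nat.sub (T_f u) (Nat.mod (T_f u) M)) (Nat.mod (T_f u) M) u) (Nat.ble (nat_lit 13) j)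
noncomputable def dp_f_2 (j u : ℕ) : Bool :=
  Bool.rec (motive := fun _ => Bool) (lH [] [] M (Nat.sub (T_f u) (Nat.mod (T_f u) M)) (Nat.mod (T_f u) M) u) (dp_f_1 j u) (Nat.ble (nat_lit 12) j)
noncomputable def dp_f_3 (j u : ℕ) : Bool :=
  Bool.rec (motive := fun _ => Bool) (lF [T_e, T_f, T_e, T_f, T_e] M (Nat.sub (T_f u) (Nat.mod (T_f u) M)) (Nat.mod (T_f u) M) u) (dp_f_2 j u) (Nat.ble (nat_lit 11) j)
noncomputable def dp_f_4 (j u : ℕ) : Bool :=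
  Bool.rec (motive := fun _ => Bool) (lF3 T_i T_f T_i M (Nat.sub (T_f u) (Nat.mod (T_f u) M)) (Nat.mod (T_f u) M) u) (dp_f_3 j u) (Nat.ble (nat_lit 10) j)
noncomputable def dp_f_5 (j u : ℕ) : Bool :=
  Bool.rec (motive := fun _ => Bool) (lF3 T_b T_f T_b M (Nat.sub (T_f u) (Nat.mod (T_f u) M)) (Nat.mod (T_f u) M) u) (dp_f_4 j u) (Nat.ble (nat_lit 9) j)
noncomputable def dp_f_6 (j u : ℕ) : Bool :=
  Bool.rec (motive := fun _ => Bool) (dp_f_0 j u) (Bool.rec (motive := fun _ => Bool) (lF3 T_h T_f T_h M (Nat.sub (T_f u) (Nat.mod (T_f u) M)) (Nat.mod (T_f u) M) u) (dp_f_5 j u) (Nat.ble (nat_lit 8) j)) (Nat.ble (nat_lit 7) j)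
noncomputable def disp_f (j u : ℕ) : Bool :=
  Bool.rec (motive := fun _ => Bool) (Bool.rec (motive := fun _ => Bool) (lF1 T_f M (Nat.sub (T_f u) (Nat.mod (T_f u) M)) (Nat.mod (T_f u) M) u) (lF3 T_ui T_f T_u M (Nat.sub (T_f u) (Nat.mod (T_f u) M)) (Nat.mod (T_f u) M) u) (Nat.ble (nat_lit 1) j)) (Bool.rec (motive := fun _ => Bool) (Bool.rec (motive := fun _ => Bool) (lF3 T_u T_f T_ui M (Nat.sub (T_f u) (Nat.mod (T_f u) M)) (Nat.mod (T_f u) M) u) (Bool.rec (motive := fun _ => Bool) (lDef P (nat_lit 4) (Nat.mod (T_f u) M) u) (lDef P (nat_lit 4) u (Nat.mod (T_f u) M)) (Nat.ble (nat_lit 4) j)) (Nat.ble (nat_lit 3) j)) (dp_f_6 j u) (Nat.ble (nat_lit 5) j)) (Nat.ble (nat_lit 2) j)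
noncomputable def chk_f (j u : ℕ) : Bool :=
  Bool.rec (motive := fun _ => Bool) (disp_f j u) (Nat.ble (Nat.succ (MG u)) A) (Nat.ble A (T_f u))
noncomputable def dp_h_0 (j u : ℕ) : Bool :=
  Bool.rec (motive := fun _ => Bool) (lS MG [T_h] M (Nat.sub (T_h u) (Nat.mod (T_h u) M)) (nat_lit 40) (Nat.mod (T_h u) M) u) (lH [] [] M (Nat.sub (T_h u) (Nat.mod (T_h u) M)) (Nat.mod (T_h u) M) u) (Nat.ble (nat_lit 12) j)
noncomputable def dp_h_1 (j u : ℕ) : Bool :=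
  Bool.rec (motive := fun _ => Bool) (lF [T_i, T_h, T_i, T_h, T_i] M (Nat.sub (T_h u) (Nat.mod (T_h u) M)) (Nat.mod (T_h u) M) u) (dp_h_0 j u) (Nat.ble (nat_lit 11) j)
noncomputable def dp_h_2 (j u : ℕ) : Bool :=
  Bool.rec (motive := fun _ => Bool) (lF [T_d, T_h, T_d, T_h, T_d] M (Nat.sub (T_h u) (Nat.mod (T_h u) M)) (Nat.mod (T_h u) M) u) (dp_h_1 j u) (Nat.ble (nat_lit 10) j)
noncomputable def dp_h_3 (j u : ℕ) : Bool :=
  Bool.rec (motive := fun _ => Bool) (lF3 T_e T_h T_e M (Nat.sub (T_h u) (Nat.mod (T_h u) M)) (Nat.mod (T_h u) M) u) (dp_h_2 j u) (Nat.ble (nat_lit 9) j)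
noncomputable def dp_h_4 (j u : ℕ) : Bool :=
  Bool.rec (motive := fun _ => Bool) (lF3 T_f T_h T_f M (Nat.sub (T_h u) (Nat.mod (T_h u) M)) (Nat.mod (T_h u) M) u) (dp_h_3 j u) (Nat.ble (nat_lit 8) j)
noncomputable def disp_h (j u : ℕ) : Bool :=
  Bool.rec (motive := fun _ => Bool) (Bool.rec (motive := fun _ => Bool) (lF1 T_h M (Nat.sub (T_h u) (Nat.mod (T_h u) M)) (Nat.mod (T_h u) M) u) (Bool.rec (motive := fun _ => Bool) (lF3 T_u T_h T_ui M (Nat.sub (T_h u) (Nat.mod (T_h u) M)) (Nat.mod (T_h u) M) u) (lF3 T_ui T_h T_u M (Nat.sub (T_h u) (Nat.mod (T_h u) M)) (Nat.mod (T_h u) M) u) (Nat.ble (nat_lit 2) j)) (Nat.ble (nat_lit 1) j)) (Bool.rec (motive := fun _ => Bool) (Bool.rec (motive := fun _ => Bool) (lDef P (nat_lit 5) (Nat.mod (T_h u) M) u) (lDef P (nat_lit 5) u (Nat.mod (T_h u) M)) (Nat.ble (nat_lit 4) j)) (Bool.rec (motive := fun _ => Bool) (Bool.rec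 (motive := fun _ => Bool) (lF3 T_b T_h T_b M (Nat.sub (T_h u) (Nat.mod (T_h u) M)) (Nat.mod (T_h u) M) u) (lF3 T_c T_h T_c M (Nat.sub (T_h u) (Nat.mod (T_h u) M)) (Nat.mod (T_h u) M) u) (Nat.ble (nat_lit 6) j)) (dp_h_4 j u) (Nat.ble (nat_lit 7) j)) (Nat.ble (nat_lit 5) j)) (Nat.ble (nat_lit 3) j)
noncomputable def chk_h (j u : ℕ) : Bool :=
  Bool.rec (motive := fun _ => Bool) (disp_h j u) (Nat.ble (Nat.succ (MG u)) A) (Nat.ble A (T_h u))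
noncomputable def dp_i_0 (j u : ℕ) : Bool :=
  Bool.rec (motive := fun _ => Bool) (lF [T_h, T_i, T_h, T_i, T_h] M (Nat.sub (T_i u) (Nat.mod (T_i u) M)) (Nat.mod (T_i u) M) u) (lS MG [T_i] M (Nat.sub (T_i u) (Nat.mod (T_i u) M)) (nat_lit 40) (Nat.mod (T_i u) M) u) (Nat.ble (nat_lit 11) j)
noncomputable def dp_i_1 (j u : ℕ) : Bool :=
  Bool.rec (motive := fun _ => Bool) (lF3 T_f T_i T_f M (Nat.sub (T_i u) (Nat.mod (T_i u) M)) (Nat.mod (T_i u) M) u) (dp_i_0 j u) (Nat.ble (nat_lit 10) j)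
noncomputable def dp_i_2 (j u : ℕ) : Bool :=
  Bool.rec (motive := fun _ => Bool) (lF3 T_e T_i T_e M (Nat.sub (T_i u) (Nat.mod (T_i u) M)) (Nat.mod (T_i u) M) u) (dp_i_1 j u) (Nat.ble (nat_lit 9) j)
noncomputable def disp_i (j u : ℕ) : Bool :=
  Bool.rec (motive := fun _ => Bool) (Bool.rec (motive := fun _ => Bool) (lF1 T_i M (Nat.sub (T_i u) (Nat.mod (T_i u) M)) (Nat.mod (T_i u) M) u) (Bool.rec (motive := fun _ => Bool) (lDef P (nat_lit 6) (Nat.mod (T_i u) M) u) (lDef P (nat_lit 6) u (Nat.mod (T_i u) M)) (Nat.ble (nat_lit 2) j)) (Nat.ble (nat_lit 1) j)) (Bool.rec (motive := fun _ => Bool) (Bool.rec (motive := fun _ => Bool) (lF3 T_b T_i T_b M (Nat.sub (T_i u) (Nat.mod (T_i u) M)) (Nat.mod (T_i u) M) u) (Bool.rec (motive := fun _ => Bool) (lF3 T_u T_i T_ui M (Nat.sub (T_i u) (Nat.mod (T_i u) M)) (Nat.mod (T_i u) M) u) (lF3 T_c T_i T_c M (Nat.sub (T_i u)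 (Nat.mod (T_i u) M)) (Nat.mod (T_i u) M) u) (Nat.ble (nat_lit 5) j)) (Nat.ble (nat_lit 4) j)) (Bool.rec (motive := fun _ => Bool) (lF3 T_ui T_i T_u M (Nat.sub (T_i u) (Nat.mod (T_i u) M)) (Nat.mod (T_i u) M) u) (Bool.rec (motive := fun _ => Bool) (lF3 T_d T_i T_d M (Nat.sub (T_i u) (Nat.mod (T_i u) M)) (Nat.mod (T_i u) M) u) (dp_i_2 j u) (Nat.ble (nat_lit 8) j)) (Nat.ble (nat_lit 7) j)) (Nat.ble (nat_lit 6) j)) (Nat.ble (nat_lit 3) j)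
noncomputable def chk_i (j u : ℕ) : Bool :=
  Bool.rec (motive := fun _ => Bool) (disp_i j u) (Nat.ble (Nat.succ (MG u)) A) (Nat.ble A (T_i u))
noncomputable def dp_u_0 (j u : ℕ) : Bool :=
  Bool.rec (motive := fun _ => Bool) (lF3 T_h T_ui T_h M (Nat.sub (T_u u) (Nat.mod (T_u u) M)) (Nat.mod (T_u u) M) u) (lF3 T_d T_ui T_d M (Nat.sub (T_u u) (Nat.mod (T_u u) M)) (Nat.mod (T_u u) M) u) (Nat.ble (nat_lit 4) j)
noncomputable def dp_u_1 (j u : ℕ) : Bool :=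
  Bool.rec (motive := fun _ => Bool) (lS MG [T_ui] M (Nat.sub (T_u u) (Nat.mod (T_u u) M)) (nat_lit 40) (Nat.mod (T_u u) M) u) (dp_u_0 j u) (Nat.ble (nat_lit 3) j)
noncomputable def disp_u (j u : ℕ) : Bool :=
  Bool.rec (motive := fun _ => Bool) (lDef P (nat_lit 7) (Nat.mod (T_u u) M) u) (Bool.rec (motive := fun _ => Bool) (lDef P (nat_lit 8) u (Nat.mod (T_u u) M)) (dp_u_1 j u) (Nat.ble (nat_lit 2) j)) (Nat.ble (nat_lit 1) j)
noncomputable def chk_u (j u : ℕ) : Bool :=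
  Bool.rec (motive := fun _ => Bool) (disp_u j u) (Nat.ble (Nat.succ (MG u)) A) (Nat.ble A (T_u u))
noncomputable def dp_ui_0 (j u : ℕ) : Bool :=
  Bool.rec (motive := fun _ => Bool) (lF1 T_u M (Nat.sub (T_ui u) (Nat.mod (T_ui u) M)) (Nat.mod (T_ui u) M) u) (lF3 T_c T_u T_c M (Nat.sub (T_ui u) (Nat.mod (T_ui u) M)) (Nat.mod (T_ui u) M) u) (Nat.ble (nat_lit 4) j)
noncomputable def dp_ui_1 (j u : ℕ) : Bool :=
  Bool.rec (motive := fun _ => Bool) (lF3 T_i T_u T_i M (Nat.sub (T_ui u) (Nat.mod (T_ui u) M)) (Nat.mod (T_ui u) M) u) (lF3 T_h T_u T_h M (Nat.sub (T_ui u) (Nat.mod (T_ui u) M)) (Nat.mod (T_ui u) M) u) (Nat.ble (nat_lit 7) j)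
noncomputable def dp_ui_2 (j u : ℕ) : Bool :=
  Bool.rec (motive := fun _ => Bool) (lF3 T_d T_u T_d M (Nat.sub (T_ui u) (Nat.mod (T_ui u) M)) (Nat.mod (T_ui u) M) u) (dp_ui_1 j u) (Nat.ble (nat_lit 6) j)
noncomputable def dp_ui_3 (j u : ℕ) : Bool :=
  Bool.rec (motive := fun _ => Bool) (dp_ui_0 j u) (dp_ui_2 j u) (Nat.ble (nat_lit 5) j)
noncomputable def dp_ui_4 (j u : ℕ) : Bool :=
  Bool.rec (motive := fun _ => Bool) (lS MG [T_u] M (Nat.sub (T_ui u) (Nat.mod (T_ui u) M)) (nat_lit 40) (Nat.mod (T_ui u) M) u) (dp_ui_3 j u) (Nat.ble (nat_lit 3) j)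
noncomputable def disp_ui (j u : ℕ) : Bool :=
  Bool.rec (motive := fun _ => Bool) (lDef P (nat_lit 7) u (Nat.mod (T_ui u) M)) (Bool.rec (motive := fun _ => Bool) (lDef P (nat_lit 8) (Nat.mod (T_ui u) M) u) (dp_ui_4 j u) (Nat.ble (nat_lit 2) j)) (Nat.ble (nat_lit 1) j)
noncomputable def chk_ui (j u : ℕ) : Bool :=
  Bool.rec (motive := fun _ => Bool) (disp_ui j u) (Nat.ble (Nat.succ (MG u)) A) (Nat.ble A (T_ui u))
noncomputable def dM_0 (j z1 z2 u : ℕ) : Bool :=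
  Bool.rec (motive := fun _ => Bool) (Bool.rec (motive := fun _ => Bool) (mCo MG T_ui M (Nat.sub (MG u) (Nat.mod (MG u) M)) (nat_lit 40) z1 z2 u (Nat.mod (MG u) M)) (Bool.rec (motive := fun _ => Bool) (mCo MG T_u M (Nat.sub (MG u) (Nat.mod (MG u) M)) (nat_lit 40) z1 z2 u (Nat.mod (MG u) M)) (mCo MG T_h M (Nat.sub (MG u) (Nat.mod (MG u) M)) (nat_lit 40) z1 z2 u (Nat.mod (MG u) M)) (Nat.ble (nat_lit 2) j)) (Nat.ble (nat_lit 1) j)) (Bool.rec (motive := fun _ => Bool) (Bool.rec (motive := fun _ => Bool) (mCo MG T_d M (Nat.sub (MG u) (Nat.mod (MG u) M)) (nat_lit 40) z1 z2 u (Nat.mod (MG u) M)) (mCo MG T_i M (Nat.sub (MG u) (Nat.mod (MG u) M)) (nat_lit 40) z1 z2 u (Nat.mod (MG u) M)) (Nat.ble (nat_lit 4) j)) (Bool.rec (motive := fun _ => Bool) (Bool.rec (motive := fun _ => Bool) (mCo MG T_e M (Nat.sub (MG u) (Nat.mod (MG u) M)) (nat_lit 40) z1 z2 u (Nat.mod (MG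 u) M)) (mCo MG T_c M (Nat.sub (MG u) (Nat.mod (MG u) M)) (nat_lit 40) z1 z2 u (Nat.mod (MG u) M)) (Nat.ble (nat_lit 6) j)) (Bool.rec (motive := fun _ => Bool) (mCo MG T_f M (Nat.sub (MG u) (Nat.mod (MG u) M)) (nat_lit 40) z1 z2 u (Nat.mod (MG u) M)) (Bool.rec (motive := fun _ => Bool) (mCo MG T_b M (Nat.sub (MG u) (Nat.mod (MG u) M)) (nat_lit 40) z1 z2 u (Nat.mod (MG u) M)) (mRel MG [T_u, T_i, T_h, T_d, T_f, T_e, T_d, T_b, T_c, T_d, T_i, T_h, T_d, T_f, T_e, T_d, T_b, T_c, T_d, T_i, T_h, T_d, T_f, T_e, T_d, T_b, T_c, T_d, T_i, T_h, T_d, T_f, T_e] [T_d, T_c, T_b, T_d, T_e, T_f, T_d, T_h, T_i, T_d, T_c, T_b, T_d, T_e, T_f, T_d, T_h, T_i, T_d, T_c, T_b, T_d, T_e, T_f, T_d, T_h, T_i, T_d, T_c, T_b, T_d, T_e, T_f, T_d, T_h, T_i, T_d, T_c, T_b, T_d, T_e, T_f, T_d, T_h, T_i, T_d, T_c, T_b, T_d, T_e, T_f, T_d, T_h, T_i, T_d, T_c, T_b, T_d] M (Nat.sub (MG u) (Nat.mod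 (MG u) M)) (nat_lit 40) z1 u (Nat.mod (MG u) M)) (Nat.ble (nat_lit 9) j)) (Nat.ble (nat_lit 8) j)) (Nat.ble (nat_lit 7) j)) (Nat.ble (nat_lit 5) j)) (Nat.ble (nat_lit 3) j)
noncomputable def chkM (u : ℕ) : Bool :=
  Bool.rec (motive := fun _ => Bool) (band (Nat.ble (Nat.succ (Nat.mod (MG u) M)) u) (dM_0 (Nat.land (MR u) (nat_lit 15)) (Nat.land (Nat.shiftRight (MR u) (nat_lit 4)) (nat_lit 4095)) (Nat.shiftRight (MR u) (nat_lit 16)) u)) true (Nat.ble A (MG u))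
noncomputable def chkN (u : ℕ) : Bool :=
  band (chk_b (Nat.land (Nat.shiftRight (RS u) (nat_lit 0)) (nat_lit 15)) u) (band (chk_c (Nat.land (Nat.shiftRight (RS u) (nat_lit 4)) (nat_lit 15)) u) (band (chk_d (Nat.land (Nat.shiftRight (RS u) (nat_lit 8)) (nat_lit 15)) u) (band (chk_e (Nat.land (Nat.shiftRight (RS u) (nat_lit 12)) (nat_lit 15)) u) (band (chk_f (Nat.land (Nat.shiftRight (RS u) (nat_lit 16)) (nat_lit 15)) u) (band (chk_h (Nat.land (Nat.shiftRight (RS u) (nat_lit 20)) (nat_lit 15)) u) (band (chk_i (Nat.land (Nat.shiftRight (RS u) (nat_lit 24)) (nat_lit 15)) u) (band (chk_u (Nat.land (Nat.shiftRight (RS u) (nat_lit 28)) (nat_lit 15)) u) (band (chk_ui (Nat.land (Nat.shiftRight (RS u) (nat_lit 32)) (nat_lit 15)) u) (chkM u)))))))))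
noncomputable def chkP (u : ℕ) : Bool := Bool.rec (motive := fun _ => Bool) (chkN u) true (Nat.ble M u)
noncomputable def liveP (u : ℕ) : Bool := Bool.rec (motive := fun _ => Bool) (Nat.ble A (MG u)) false (Nat.ble M u)
end H34.TCO7B
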